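import Cfsg.Agent.Helper28.SuzSub
import Cfsg.Agent.Helper28.Suz1.Main
import Cfsg.Agent.Helper28.SuzP1.Main
import Cfsg.Agent.Helper28.SuzP2.Main
import Cfsg.Agent.Helper28.SuzP3.Main
set_option autoImplicit false
namespace Cfsg.Agent.Helper28.SuzC
open Cfsg.Agent.Helper28 Cfsg.Spor

theorem hY3 : SuzP3.Y = ∅ := by
  ext y; simp [SuzP3.Ylist]

theorem hY2 : SuzP2.Y = Set.range (fun b => FreeGroup.of (SuzP3D.iota b)) := by
  ext y
  simp only [Set.mem_setOf_eq, SuzP2.Ylist, Set.mem_range]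
  constructor
  · intro h
    simp only [List.mem_cons, List.not_mem_nil, or_false] at h
    rcases h with rfl | rfl | rfl | rfl
    exacts [⟨.a, rfl⟩, ⟨.b, rfl⟩, ⟨.c, rfl⟩, ⟨.d, rfl⟩]
  · rintro ⟨b, rfl⟩
    cases b <;> simp [SuzP3D.iota]

theorem hY1 : SuzP1.Y = Set.range (fun b => FreeGroup.of (SuzP2D.iota b)) := by
  ext y
  simp only [Set.mem_setOf_eq, SuzP1.Ylist, Set.mem_range]
  constructor
  · intro h
    simp only [List.mem_cons, List.not_mem_nil, or_false] at h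
    rcases h with rfl | rfl | rfl | rfl | rfl
    exacts [⟨.a, rfl⟩, ⟨.b, rfl⟩, ⟨.c, rfl⟩, ⟨.d, rfl⟩, ⟨.e, rfl⟩]
  · rintro ⟨b, rfl⟩
    cases b <;> simp [SuzP2D.iota]

theorem hY0 : Suz1.Y = Set.range (fun b => FreeGroup.of (SuzP1D.iota b)) := by
  ext y
  simp only [Set.mem_setOf_eq, Suz1.Ylist, Set.mem_range]
  constructor
  · intro h
    simp only [List.mem_cons, List.not_mem_nil, or_false] at h
    rcases h with rfl | rfl | rfl | rfl | rfl | rfl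
    exacts [⟨.a, rfl⟩, ⟨.b, rfl⟩, ⟨.c, rfl⟩, ⟨.d, rfl⟩, ⟨.e, rfl⟩, ⟨.f, rfl⟩]
  · rintro ⟨b, rfl⟩
    cases b <;> simp [SuzP1D.iota]

theorem upper3 : Finite (PresentedGroup SuzP3.R) ∧ Nat.card (PresentedGroup SuzP3.R) = 2160 :=
  card_of_index_bot SuzP3.R SuzP3.Y hY3 2160 (by omega) SuzP3.main_index

theorem upper2 : Finite (PresentedGroup SuzP2.R) ∧ Nat.card (PresentedGroup SuzP2.R) ≤ 280 * 2160 := by
  obtain ⟨h1, h2, -⟩ := card_le_of_link SuzP3D.iota SuzP3.R SuzP2.R SuzP3D.hrels SuzP2.Y hY2 280 2160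
    (by omega) SuzP2.main_index upper3.1 (le_of_eq upper3.2)
  exact ⟨h1, h2⟩

theorem upper1 : Finite (PresentedGroup SuzP1.R) ∧
    Nat.card (PresentedGroup SuzP1.R) ≤ 416 * (280 * 2160) := by
  obtain ⟨h1, h2, -⟩ := card_le_of_link SuzP2D.iota SuzP2.R SuzP1.R SuzP2D.hrels SuzP1.Y hY1 416 (280 * 2160)
    (by omega) SuzP1.main_index upper2.1 upper2.2
  exact ⟨h1, h2⟩

theorem upper0 : Finite (PresentedGroup Suz1.R) ∧
    Nat.card (PresentedGroup Suz1.R) ≤ 448345497600 := by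
  obtain ⟨h1, h2, -⟩ := card_le_of_link SuzP1D.iota SuzP1.R Suz1.R SuzP1D.hrels Suz1.Y hY0 1782
    (416 * (280 * 2160)) (by omega) Suz1.main_index upper1.1 upper1.2
  exact ⟨h1, le_trans h2 (by norm_num)⟩

end Cfsg.Agent.Helper28.SuzC
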