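import Cfsg.Agent.Helper28.SuzC.Chain
import Cfsg.Agent.Helper28.SuzC.Upper
import Cfsg.Agent.Helper28.SuzQ.Main
import Cfsg.Agent.Helper28.ChainMain
set_option autoImplicit false
set_option maxRecDepth 1000000
namespace Cfsg.Agent.Helper28.SuzC
open Cfsg.Agent.Helper28 Cfsg.Agent.Helper28.Suz1 Cfsg.Spor

theorem hrels : ∀ r ∈ Suz1.R, rhoF idx 7 ptabs inv_ok layout.hL r = 1 :=
  layout.hrels inv_ok hperm_all

theorem card_inj : Nat.card (PresentedGroup Suz1.R) = 448345497600 ∧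
    Function.Injective (rhoG Suz1.R idx 7 ptabs inv_ok layout.hL hrels) :=
  card_eq_and_injective Suz1.R idx 7 ptabs inv_ok layout.hL hrels 448345497600 upper0.1 upper0.2 lower_bound

/-- the word of `x ^ 11` -/
def wp : List Nat := [2, 4, 6, 8, 10, 12, 2, 4, 6, 8, 10, 12, 2, 4, 6, 8, 10, 12, 2, 4, 6, 8, 10, 12, 2, 4, 6, 8, 10, 12, 2, 4, 6, 8, 10, 12, 2, 4, 6, 8, 10, 12, 2, 4, 6, 8, 10, 12, 2, 4, 6, 8, 10, 12, 2, 4, 6, 8, 10, 12, 2, 4, 6, 8, 10, 12]

theorem hwp : ev gen 7 wp = SuzQD.xw ^ 11 := by decide +kernel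
theorem hletp : ∀ l ∈ wp, l < ptabs.L := by decide +kernel
theorem hrelp : relOk ptabs wp 0 ptabs.n = true := by decide +kernel

theorem hYQ : SuzQ.Y = ∅ := by
  ext y; simp [SuzQ.Ylist]

theorem hnc : ∀ Nn : Subgroup (PresentedGroup Suz1.R), Nn.Normal →
    PresentedGroup.mk Suz1.R SuzQD.xw ∈ Nn → Nn = ⊤ := by
  intro Nn hN hx
  refine normal_eq_top_of_collapse Suz1.R SuzQ.R SuzQD.xw ?_
    (subsingleton_of_index_bot SuzQ.R SuzQ.Y hYQ SuzQ.main_index) Nn hN hx
  intro r hr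
  rcases hr with hr | hr
  · exact Or.inl (Or.inl hr)
  · have hr' : r ∈ Suz.extra ++ [SuzQD.xw] := hr
    rcases List.mem_append.mp hr' with h | h
    · exact Or.inl (Or.inr h)
    · exact Or.inr (List.mem_singleton.mp h)

/-- sizes of the orbits of the point stabiliser -/
def sz (t : ℕ) : ℕ := if t = 0 then 1 else if t = 995 then 416 else 1365

theorem hsz : ∀ t ∈ [995, 0, 1].toFinset, countEq (fun j => oRoot (orb2 j)) t ptabs.n = sz t := by
  intro t ht
  simp only [List.toFinset_cons, List.toFinset_nil, Finset.mem_insert, Finset.mem_singleton,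
    insert_empty_eq] at ht
  rcases ht with rfl | rfl | rfl
  · exact cnt2
  · exact cnt2_0
  · exact cnt2_1

theorem hdiv : ∀ T ∈ ([995, 0, 1].toFinset : Finset ℕ).powerset, 0 ∈ T → (∑ t ∈ T, sz t) ∣ ptabs.n →
    T = {0} ∨ T = [995, 0, 1].toFinset := by
  decide

theorem simple : IsSimpleGroup (PresentedGroup Suz1.R) :=
  simple_of_chain Suz1.R gen idx 7 ptabs inv_ok layout.hL hrels 448345497600 upper0.1 card_inj.1 card_inj.2
    layout.hig hn ws1 7 let_ok1 fix_ok1 orb1 orb_ok1 root_ok1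
    ws2 6 let_ok2 fix_ok2 orb2 orb_ok2 [995, 0, 1].toFinset (rootsOkW_sound orb2 _ _ roots_ok2) sz hsz
    (by decide +kernel) rfl hdiv SuzQD.xw 11 wp hwp hletp hrelp (by decide +kernel) hnc (by norm_num)

end Cfsg.Agent.Helper28.SuzC
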